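import Mathlib

/-! Smooth and unramified loci of algebras under base change. -/

universe u

open TensorProduct

namespace Groth.PropsBasic.Loci

/-- Smoothness at a prime is invariant under isomorphisms of algebras. -/
lemma isSmoothAt_comap_algEquiv {T P P' : Type u} [CommRing T] [CommRing P] [CommRing P']
    [Algebra T P] [Algebra T P'] (e : P ≃ₐ[T] P') (q : Ideal P') [q.IsPrime]
    [h : Algebra.IsSmoothAt T q] : Algebra.IsSmoothAt T (q.comap e.toRingEquiv) := by
  let f := IsLocalization.ringEquivOfRingEquiv (Localization.AtPrime (q.comap e.toRingEquiv))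
    (Localization.AtPrime q) e.toRingEquiv (e.toRingEquiv.map_primeCompl_comap_eq q)
  let f' : Localization.AtPrime (q.comap e.toRingEquiv) ≃ₐ[T] Localization.AtPrime q :=
    AlgEquiv.ofRingEquiv (f := f) fun t => by
      rw [IsScalarTower.algebraMap_apply T P, IsScalarTower.algebraMap_apply T P'
        (Localization.AtPrime q)]
      erw [IsLocalization.ringEquivOfRingEquiv_eq]
      exact congrArg _ (e.commutes t)
  exact Algebra.FormallySmooth.of_equiv f'.symm

/-- If the base change of a finite module is zero at a prime, so is the module at the prime below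
(Nakayama). -/
lemma notMem_support_of_baseChange {S P M : Type u} [CommRing S] [CommRing P] [Algebra S P]
    [AddCommGroup M] [Module S M] [Module.Finite S M] (q : PrimeSpectrum P)
    (h : q ∉ Module.support P (P ⊗[S] M)) :
    PrimeSpectrum.comap (algebraMap S P) q ∉ Module.support S M := by
  intro hmem
  apply h
  rw [Module.mem_support_iff_nontrivial_residueField_tensorProduct] at hmem ⊢
  set p := PrimeSpectrum.comap (algebraMap S P) q
  have : q.asIdeal.LiesOver p.asIdeal := ⟨rfl⟩
  letI : Algebra p.asIdeal.ResidueField q.asIdeal.ResidueField :=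
    (Ideal.ResidueField.map p.asIdeal q.asIdeal (algebraMap S P) rfl).toAlgebra
  have : IsScalarTower S p.asIdeal.ResidueField q.asIdeal.ResidueField :=
    IsScalarTower.of_algebraMap_eq fun a => by
      rw [IsScalarTower.algebraMap_apply S P q.asIdeal.ResidueField, RingHom.algebraMap_toAlgebra,
        IsScalarTower.algebraMap_apply P (Localization.AtPrime q.asIdeal) q.asIdeal.ResidueField,
        IsScalarTower.algebraMap_apply S (Localization.AtPrime p.asIdeal) p.asIdeal.ResidueField]
      have := Localization.isLocalHom_localRingHom p.asIdeal q.asIdeal (algebraMap S P) rfl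
      exact ((IsLocalRing.ResidueField.map_residue _ _).trans
        (congrArg _ (Localization.localRingHom_to_map _ _ _ rfl a))).symm
  let e : q.asIdeal.ResidueField ⊗[P] (P ⊗[S] M) ≃ₗ[q.asIdeal.ResidueField]
      q.asIdeal.ResidueField ⊗[p.asIdeal.ResidueField] (p.asIdeal.ResidueField ⊗[S] M) :=
    AlgebraTensorModule.cancelBaseChange S P _ _ _ ≪≫ₗ
      (AlgebraTensorModule.cancelBaseChange S p.asIdeal.ResidueField _ _ _).symm
  exact e.toEquiv.nontrivial

section Unramified

variable (R T S P : Type u) [CommRing R] [CommRing T] [CommRing S] [CommRing P] [Algebra R T]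
  [Algebra R S] [Algebra R P] [Algebra T P] [Algebra S P] [IsScalarTower R T P]
  [IsScalarTower R S P]

/-- Unramifiedness descends along arbitrary base change. -/
lemma isUnramifiedAt_of_isPushout [Algebra.IsPushout R T S P] [Algebra.EssFiniteType R S]
    (q : Ideal P) [hq : q.IsPrime] [h : Algebra.IsUnramifiedAt T q] :
    Algebra.IsUnramifiedAt R (q.comap (algebraMap S P)) := by
  have h' : (⟨q, hq⟩ : PrimeSpectrum P) ∈ Algebra.unramifiedLocus T P := h
  rw [Algebra.unramifiedLocus_eq_compl_support, Set.mem_compl_iff] at h'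
  have h'' : (⟨q, hq⟩ : PrimeSpectrum P) ∉ Module.support P (P ⊗[S] Ω[S⁄R]) := by
    rwa [(KaehlerDifferential.tensorKaehlerEquiv R T S P).support_eq]
  have h3 := notMem_support_of_baseChange _ h''
  rwa [← Set.mem_compl_iff, ← Algebra.unramifiedLocus_eq_compl_support] at h3

end Unramified

section Smooth

variable {R T S : Type u} [CommRing R] [CommRing T] [CommRing S] [Algebra R T] [Algebra R S]

attribute [local instance] Algebra.TensorProduct.rightAlgebra in
/-- Smoothness descends along flat base change. -/
lemma isSmoothAt_of_tensorProduct [Module.Flat R T] [Algebra.FinitePresentation R S]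
    (q : Ideal (T ⊗[R] S)) [hq : q.IsPrime] [h : Algebra.IsSmoothAt T q] :
    Algebra.IsSmoothAt R (q.comap (algebraMap S (T ⊗[R] S))) := by
  set P := T ⊗[R] S
  set p := q.comap (algebraMap S P) with hp
  have : q.LiesOver p := ⟨rfl⟩
  have hPF : Algebra.FinitePresentation T P := inferInstance
  have : Algebra.IsPushout R T S P := inferInstance
  have : Algebra.IsPushout R S T P := .symm inferInstance
  have hflat : Module.Flat S P := by
    have e : S ⊗[R] T ≃ₐ[S] P := Algebra.IsPushout.equiv R S T P
    exact Module.Flat.of_linearEquiv e.toLinearEquiv.symm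
  have h' : (⟨q, hq⟩ : PrimeSpectrum P) ∈ Algebra.smoothLocus T P := h
  rw [Algebra.smoothLocus_eq_compl_support_inter] at h'
  obtain ⟨hH, hΩ⟩ := h'
  suffices (⟨p, inferInstance⟩ : PrimeSpectrum S) ∈ Algebra.smoothLocus R S from this
  rw [Algebra.smoothLocus_eq_compl_support_inter]
  refine ⟨fun hmem => ?_, ?_⟩
  · obtain ⟨x, hx⟩ := Module.mem_support_iff'.mp hmem
    rw [Set.mem_compl_iff, Module.notMem_support_iff'] at hH
    let φ : P ⊗[S] Algebra.H1Cotangent R S →ₗ[P] Algebra.H1Cotangent T P :=
      (Algebra.H1Cotangent.map R T S P).liftBaseChange P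
    let ψ : T ⊗[R] Algebra.H1Cotangent R S →ₗ[R] P ⊗[S] Algebra.H1Cotangent R S :=
      TensorProduct.lift <| LinearMap.mk₂ R (fun t y => (t ⊗ₜ[R] (1 : S) : P) ⊗ₜ[S] y)
        (fun a b y => by simp [add_tmul]) (fun c a y => by simp [← smul_tmul'])
        (fun a y z => by simp [tmul_add]) (fun c a y => by rw [tmul_smul])
    have hψ : Function.Surjective ψ := by
      intro z
      induction z using TensorProduct.induction_on with
      | zero => exact ⟨0, map_zero _⟩
      | add a b ha hb =>
        obtain ⟨a, rfl⟩ := ha
        obtain ⟨b, rfl⟩ := hb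
        exact ⟨a + b, map_add _ _ _⟩
      | tmul z y =>
        induction z using TensorProduct.induction_on with
        | zero => exact ⟨0, by simp⟩
        | add a b ha hb =>
          obtain ⟨a', ha⟩ := ha
          obtain ⟨b', hb⟩ := hb
          exact ⟨a' + b', by rw [map_add, ha, hb, add_tmul]⟩
        | tmul t s =>
          refine ⟨t ⊗ₜ (s • y), ?_⟩
          change (t ⊗ₜ[R] (1 : S) : P) ⊗ₜ[S] (s • y) = _
          rw [← TensorProduct.smul_tmul, Algebra.smul_def]
          simp [RingHom.algebraMap_toAlgebra, Algebra.TensorProduct.tmul_mul_tmul, P]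
    have hφψ : ∀ z, φ (ψ z) = Algebra.tensorH1CotangentOfFlat R S T z := by
      intro z
      induction z using TensorProduct.induction_on with
      | zero => simp
      | add a b ha hb => simp only [map_add, ha, hb]
      | tmul t y =>
        rw [Algebra.tensorH1CotangentOfFlat_tmul]
        change φ ((t ⊗ₜ[R] (1 : S) : P) ⊗ₜ[S] y) = _
        rw [LinearMap.liftBaseChange_tmul]
        exact IsScalarTower.algebraMap_smul P t _
    have hφ : Function.Injective φ := by
      rw [injective_iff_map_eq_zero]
      intro z hz
      obtain ⟨z, rfl⟩ := hψ z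
      rw [hφψ, LinearEquiv.map_eq_zero_iff] at hz
      rw [hz, map_zero]
    obtain ⟨u, hu, hux⟩ := hH (φ (1 ⊗ₜ x))
    rw [← map_smul, map_eq_zero_iff φ hφ] at hux
    let f : S →ₗ[S] Algebra.H1Cotangent R S := LinearMap.toSpanSingleton S _ x
    have hex : Function.Exact (Submodule.subtype (LinearMap.ker f)) f :=
      LinearMap.exact_subtype_ker_map f
    have hex' := Module.Flat.lTensor_exact (M := P) hex
    obtain ⟨w, hw⟩ := (hex' ((u : P) ⊗ₜ[S] (1 : S))).mp (by
      simp only [f, LinearMap.lTensor_tmul, LinearMap.toSpanSingleton_apply, one_smul]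
      rwa [TensorProduct.smul_tmul', smul_eq_mul, mul_one] at hux)
    have hker : LinearMap.ker f ≤ p := fun s hs => by
      by_contra hsp
      exact hx s hsp (by simpa [f] using hs)
    have : ∀ z : P ⊗[S] LinearMap.ker f,
        TensorProduct.AlgebraTensorModule.rid S P P (LinearMap.lTensor P (Submodule.subtype (LinearMap.ker f)) z) ∈ q := by
      intro z
      induction z using TensorProduct.induction_on with
      | zero => simp
      | add a b ha hb => rw [map_add, map_add]; exact q.add_mem ha hb
      | tmul z s =>
        simp only [LinearMap.lTensor_tmul, AlgebraTensorModule.rid_tmul, Submodule.subtype_apply]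
        rw [Algebra.smul_def]
        exact q.mul_mem_right _ (hker s.2)
    have := this w
    rw [hw, AlgebraTensorModule.rid_tmul, one_smul] at this
    exact hu this
  · letI := Localization.AtPrime.algebraOfLiesOver p q
    have hfl : Module.Flat (Localization.AtPrime p) (Localization.AtPrime q) := by
      have : Module.Flat S (Localization.AtPrime q) := Module.Flat.trans S P _
      exact (Module.flat_iff_of_isLocalization (Localization.AtPrime p) p.primeCompl _).mpr this
    have : Module.FaithfullyFlat (Localization.AtPrime p) (Localization.AtPrime q) :=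
      Module.FaithfullyFlat.of_flat_of_isLocalHom
    rw [Module.mem_freeLocus_iff_tensor _ (Localization.AtPrime q)] at hΩ
    rw [Module.mem_freeLocus_iff_tensor _ (Localization.AtPrime p)]
    let e : Localization.AtPrime q ⊗[Localization.AtPrime p] (Localization.AtPrime p ⊗[S] Ω[S⁄R])
        ≃ₗ[Localization.AtPrime q] Localization.AtPrime q ⊗[P] Ω[P⁄T] :=
      AlgebraTensorModule.cancelBaseChange S (Localization.AtPrime p) _ _ _ ≪≫ₗ
      (AlgebraTensorModule.cancelBaseChange S P _ _ _).symm ≪≫ₗ
      AlgebraTensorModule.congr (LinearEquiv.refl _ _) (KaehlerDifferential.tensorKaehlerEquiv R T S P)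
    have : Module.Flat (Localization.AtPrime q)
        (Localization.AtPrime q ⊗[Localization.AtPrime p] (Localization.AtPrime p ⊗[S] Ω[S⁄R])) :=
      Module.Flat.of_linearEquiv e
    have : Module.Flat (Localization.AtPrime p) (Localization.AtPrime p ⊗[S] Ω[S⁄R]) :=
      Module.Flat.of_flat_tensorProduct _ _ (Localization.AtPrime q)
    exact Module.free_of_flat_of_isLocalRing

/-- Smoothness descends along flat base change, in terms of a pushout square. -/
lemma isSmoothAt_of_isPushout {P : Type u} [CommRing P] [Algebra R P] [Algebra T P] [Algebra S P]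
    [IsScalarTower R T P] [IsScalarTower R S P] [Algebra.IsPushout R T S P] [Module.Flat R T]
    [Algebra.FinitePresentation R S] (q : Ideal P) [q.IsPrime] [Algebra.IsSmoothAt T q] :
    Algebra.IsSmoothAt R (q.comap (algebraMap S P)) := by
  let e := Algebra.IsPushout.equiv R T S P
  have := isSmoothAt_comap_algEquiv e q
  have h := isSmoothAt_of_tensorProduct (R := R) (S := S) (q.comap e.toRingEquiv)
  have hc : (q.comap e.toRingEquiv).comap Algebra.TensorProduct.includeRight.toRingHom =
      q.comap (algebraMap S P) := by
    ext s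
    simp [e, Algebra.IsPushout.equiv_tmul]
  exact (show ∀ (a b : Ideal S) (_ : a = b) [a.IsPrime] [b.IsPrime],
    Algebra.IsSmoothAt R a → Algebra.IsSmoothAt R b by rintro _ _ rfl _ _ h; exact h) _ _ hc h

set_option backward.defeqAttrib.useBackward true in
set_option backward.isDefEq.respectTransparency false in
attribute [local instance] Algebra.TensorProduct.rightAlgebra in
/-- The fibrewise criterion at a point: flatness at `q` and smoothness of the fibre at the point
corresponding to `q` give smoothness at `q`. -/
lemma isSmoothAt_of_flat_of_fiber [Algebra.FinitePresentation R S] (p : Ideal R) [p.IsPrime]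
    (q : Ideal S) [q.IsPrime] [q.LiesOver p] [Module.Flat R (Localization.AtPrime q)]
    (Q : Ideal (p.Fiber S)) [Q.IsPrime]
    (hQ : Q.comap (Algebra.TensorProduct.includeRight (R := R) (A := p.ResidueField) (B := S)).toRingHom = q)
    [Algebra.IsSmoothAt p.ResidueField Q] : Algebra.IsSmoothAt R q := by
  let Rp := Localization.AtPrime p
  let Sp := Localization (Algebra.algebraMapSubmonoid S p.primeCompl)
  let Sq := Localization.AtPrime q
  let := Localization.AtPrime.algebraOfLiesOver p q
  let f : Sp →ₐ[S] Sq := IsLocalization.liftAlgHom (M := Algebra.algebraMapSubmonoid S p.primeCompl)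
        (f := Algebra.ofId _ _) (by
      rintro ⟨_, x, hx, rfl⟩
      simpa using! IsLocalization.map_units (M := q.primeCompl) Sq ⟨algebraMap _ _ x,
        by simp_all [q.over_def p]⟩)
  algebraize [f.toRingHom]
  have : IsScalarTower R Sp Sq := .to₁₃₄ _ S _ _
  have : IsScalarTower Rp Sp Sq := .of_algebraMap_eq' <| by
    apply IsLocalization.ringHom_ext p.primeCompl
    simp only [RingHom.comp_assoc, ← IsScalarTower.algebraMap_eq]
  have : IsLocalization (Algebra.algebraMapSubmonoid Sp q.primeCompl) Sq :=
    .isLocalization_of_submonoid_le _ _ (Algebra.algebraMapSubmonoid S p.primeCompl) _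
    (by rintro _ ⟨x, hx, rfl⟩; simp_all [q.over_def p])
  have : Algebra.FinitePresentation Rp Sp := by
    have : Algebra.IsPushout R Rp S Sp :=
      .symm <| Algebra.isPushout_of_isLocalization p.primeCompl _ _ _
    exact .equiv (Algebra.IsPushout.equiv R Rp S Sp)
  have : Algebra.FormallySmooth (IsLocalRing.ResidueField Rp) ((IsLocalRing.ResidueField Rp) ⊗[Rp] Sq) := by
    let : Algebra S ((IsLocalRing.ResidueField Rp) ⊗[R] S) := Algebra.TensorProduct.rightAlgebra
    have : Algebra.FormallySmooth (IsLocalRing.ResidueField Rp) (((IsLocalRing.ResidueField Rp) ⊗[R] S) ⊗[S] Sq) := by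
      have hloc : IsLocalization (Algebra.algebraMapSubmonoid (p.Fiber S) q.primeCompl)
          ((p.Fiber S) ⊗[S] Sq) := IsLocalization.tensor _ q.primeCompl
      have hle : Algebra.algebraMapSubmonoid (p.Fiber S) q.primeCompl ≤ Q.primeCompl := by
        rintro _ ⟨s, hs, rfl⟩ hmem
        exact hs (hQ ▸ hmem)
      have hdvd : ∀ n ∈ Q.primeCompl,
          ∃ m ∈ Algebra.algebraMapSubmonoid (p.Fiber S) q.primeCompl, n ∣ m := by
        intro n hn
        obtain ⟨r, hr, s, hrs⟩ := Ideal.Fiber.exists_smul_eq_one_tmul p n
        have hu : IsUnit (algebraMap R (p.Fiber S) r) := by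
          rw [IsScalarTower.algebraMap_apply R p.ResidueField (p.Fiber S)]
          exact (isUnit_iff_ne_zero.mpr fun h0 => hr (Ideal.algebraMap_residueField_eq_zero.mp h0)).map _
        refine ⟨algebraMap S _ s, ⟨s, fun hs => ?_, rfl⟩, ⟨algebraMap R _ r, ?_⟩⟩
        · have h1 : (1 : p.ResidueField) ⊗ₜ[R] s ∈ Q := (SetLike.ext_iff.mp hQ s).mpr hs
          rw [← hrs, Algebra.smul_def] at h1
          exact hn ((Q.unit_mul_mem_iff_mem hu).mp h1)
        · rw [mul_comm, ← Algebra.smul_def, hrs]; rfl
      have hloc' : IsLocalization Q.primeCompl ((p.Fiber S) ⊗[S] Sq) :=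
        (IsLocalization.iff_of_le_of_exists_dvd _ _ hle hdvd).mp hloc
      exact Algebra.FormallySmooth.of_equiv (R := p.ResidueField) (A := Localization.AtPrime Q)
        (B := (p.Fiber S) ⊗[S] Sq)
        ((IsLocalization.algEquiv Q.primeCompl (Localization.AtPrime Q) ((p.Fiber S) ⊗[S] Sq)).restrictScalars p.ResidueField)
    let e : (IsLocalRing.ResidueField Rp) ⊗[R] S ≃ₐ[S] S ⊗[R] (IsLocalRing.ResidueField Rp) :=
      { __ := Algebra.TensorProduct.comm _ _ _, commutes' _ := rfl }
    let e' : ((IsLocalRing.ResidueField Rp) ⊗[R] S) ⊗[S] Sq ≃ₐ[R] (IsLocalRing.ResidueField Rp) ⊗[Rp] Sq :=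
      ((Algebra.TensorProduct.comm _ _ _).restrictScalars R).trans <|
      ((Algebra.TensorProduct.congr (.refl (R := S)) e).restrictScalars R).trans <|
      ((Algebra.TensorProduct.cancelBaseChange _ _ S _ _).restrictScalars R).trans <|
      (Algebra.TensorProduct.comm _ _ _).trans (Algebra.TensorProduct.equivOfCompatibleSMul ..)
    have : e'.toAlgHom.comp (IsScalarTower.toAlgHom R p.ResidueField _) =
        IsScalarTower.toAlgHom _ _ _ := by ext
    let e'' : ((IsLocalRing.ResidueField Rp) ⊗[R] S) ⊗[S] Sq ≃ₐ[(IsLocalRing.ResidueField Rp)] (IsLocalRing.ResidueField Rp) ⊗[Rp] Sq :=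
      { __ := e', commutes' r := congr($this r) }
    exact .of_equiv e''
  have : Module.Flat Rp Sq := (Module.flat_iff_of_isLocalization Rp p.primeCompl Sq).mpr inferInstance
  have := Algebra.FormallySmooth.of_formallySmooth_residueField_tensor
    (R := Rp) (S := Sq) (P := Sp) (Algebra.algebraMapSubmonoid _ q.primeCompl)
  exact .comp R Rp Sq

end Smooth

end Groth.PropsBasic.Loci
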