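import Mathlib
import Groth.Agent.PropsBasic.LociBaseChange.Alg

/-! Smooth and unramified loci of morphisms of schemes under base change. -/

universe u

open CategoryTheory Limits AlgebraicGeometry TopologicalSpace TensorProduct

set_option backward.isDefEq.respectTransparency.types false

namespace Groth.PropsBasic.Loci

variable {X S X' S' : Scheme.{u}} {f : X ⟶ S} {g : S' ⟶ S} {f' : X' ⟶ S'} {g' : X' ⟶ X}

/-- A cartesian square is affine-locally a pushout of rings. -/
lemma exists_chart (H : IsPullback g' f' f g) (x' : X') :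
    ∃ (V : S.Opens) (V' : S'.Opens) (U : X.Opens) (W : X'.Opens) (eU : U ≤ f ⁻¹ᵁ V)
      (eV : V' ≤ g ⁻¹ᵁ V) (eWU : W ≤ g' ⁻¹ᵁ U) (eWV : W ≤ f' ⁻¹ᵁ V'),
      IsAffineOpen V ∧ IsAffineOpen V' ∧ IsAffineOpen U ∧ IsAffineOpen W ∧ x' ∈ W ∧
      IsPushout (f.appLE V U eU) (g.appLE V V' eV) (g'.appLE U W eWU) (f'.appLE V' W eWV) := by
  obtain ⟨_, ⟨V : S.Opens, hV, rfl⟩, hxV, -⟩ :=
    S.isBasis_affineOpens.exists_subset_of_mem_open (Set.mem_univ (f (g' x'))) isOpen_univ
  obtain ⟨_, ⟨U : X.Opens, hU, rfl⟩, hxU, eU⟩ :=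
    X.isBasis_affineOpens.exists_subset_of_mem_open (show g' x' ∈ f ⁻¹ᵁ V from hxV) (f ⁻¹ᵁ V).2
  have hx'V : f' x' ∈ g ⁻¹ᵁ V := by
    show g (f' x') ∈ V
    rw [← Scheme.Hom.comp_apply, ← H.w, Scheme.Hom.comp_apply]; exact hxV
  obtain ⟨_, ⟨V' : S'.Opens, hV', rfl⟩, hxV', eV⟩ :=
    S'.isBasis_affineOpens.exists_subset_of_mem_open hx'V (g ⁻¹ᵁ V).2
  have : IsAffine _ := hV
  have : IsAffine _ := hV'
  have : IsAffine _ := hU
  let W := g' ⁻¹ᵁ U ⊓ f' ⁻¹ᵁ V'
  have hW : IsAffineOpen W :=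
    .of_isIso (Scheme.Hom.isPullback_resLE H eV eU (rfl : W = _)).isoPullback.hom
  exact ⟨V, V', U, W, eU, eV, inf_le_left, inf_le_right, hV, hV', hU, hW, ⟨hxU, hxV'⟩,
    (isIso_pushoutSection_iff H eV eU rfl).mp
      (isIso_pushoutSection_of_isAffineOpen H eV eU rfl hV hV' hU)⟩

lemma primeIdealOf_comap (m : X' ⟶ X) {U : X.Opens} (hU : IsAffineOpen U) {W : X'.Opens}
    (hW : IsAffineOpen W) (e : W ≤ m ⁻¹ᵁ U) {x : X'} (hx : x ∈ W) :
    (hW.primeIdealOf ⟨x, hx⟩).asIdeal.comap (m.appLE U W e).hom =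
      (hU.primeIdealOf ⟨m x, e hx⟩).asIdeal :=
  congr($(IsAffineOpen.comap_primeIdealOf_appLE U hU W hW e hx).1)

section Smooth

/-- The smooth locus pulls back into the smooth locus. -/
lemma preimage_smoothLocus_le (H : IsPullback g' f' f g) [LocallyOfFinitePresentation f]
    [LocallyOfFinitePresentation f'] : g' ⁻¹ᵁ f.smoothLocus ≤ f'.smoothLocus := by
  set U := f.smoothLocus
  have hU : Smooth (U.ι ≫ f) := by
    rw [← Scheme.Hom.smoothLocus_eq_top_iff, ← Scheme.Hom.preimage_smoothLocus_eq]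
    exact top_le_iff.mp fun p _ => p.2
  have hsq : IsPullback (g' ∣_ U) ((g' ⁻¹ᵁ U).ι ≫ f') (U.ι ≫ f) g :=
    (isPullback_morphismRestrict g' U).paste_vert H
  have : Smooth ((g' ⁻¹ᵁ U).ι ≫ f') := MorphismProperty.of_isPullback hsq hU
  intro p hp
  have h : (⟨p, hp⟩ : g' ⁻¹ᵁ U) ∈ (g' ⁻¹ᵁ U).ι ⁻¹ᵁ f'.smoothLocus := by
    rw [Scheme.Hom.preimage_smoothLocus_eq (g' ⁻¹ᵁ U).ι f', Scheme.Hom.smoothLocus_eq_top]; trivial
  exact h

/-- Along a flat base change, a point is smooth if it is smooth upstairs. -/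
lemma mem_smoothLocus_of_flat (H : IsPullback g' f' f g) [LocallyOfFinitePresentation f]
    [LocallyOfFinitePresentation f'] [Flat g] {x' : X'} (hx' : x' ∈ f'.smoothLocus) :
    g' x' ∈ f.smoothLocus := by
  obtain ⟨V, V', U, W, eU, eV, eWU, eWV, hV, hV', hU, hW, hx, hpo⟩ := exists_chart H x'
  algebraize [(f.appLE V U eU).hom, (g.appLE V V' eV).hom, (g'.appLE U W eWU).hom,
    (f'.appLE V' W eWV).hom, (g'.appLE U W eWU).hom.comp (f.appLE V U eU).hom]
  have : IsScalarTower Γ(S, V) Γ(S', V') Γ(X', W) :=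
    IsScalarTower.of_algebraMap_eq fun a => congr($(hpo.w) a)
  have : IsScalarTower Γ(S, V) Γ(X, U) Γ(X', W) := IsScalarTower.of_algebraMap_eq fun a => rfl
  have : Algebra.IsPushout Γ(S, V) Γ(X, U) Γ(S', V') Γ(X', W) :=
    CommRingCat.isPushout_iff_isPushout.mp hpo
  have : Algebra.IsPushout Γ(S, V) Γ(S', V') Γ(X, U) Γ(X', W) := .symm inferInstance
  have : Module.Flat Γ(S, V) Γ(S', V') := g.flat_appLE hV hV' eV
  have : Algebra.FinitePresentation Γ(S, V) Γ(X, U) := f.finitePresentation_appLE hV hU eU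
  rw [Scheme.Hom.mem_smoothLocus, formallySmooth_stalkMap_iff V' hV' W hW eWV hx] at hx'
  rw [Scheme.Hom.mem_smoothLocus, formallySmooth_stalkMap_iff V hV U hU eU (eWU hx)]
  have : Algebra.IsSmoothAt Γ(S', V') (hW.primeIdealOf ⟨x', hx⟩).asIdeal := hx'
  have h := isSmoothAt_of_isPushout (R := Γ(S, V)) (T := Γ(S', V')) (S := Γ(X, U))
    (hW.primeIdealOf ⟨x', hx⟩).asIdeal
  exact (show ∀ (a b : Ideal Γ(X, U)) (_ : a = b) [a.IsPrime] [b.IsPrime],
    Algebra.IsSmoothAt Γ(S, V) a → Algebra.IsSmoothAt Γ(S, V) b by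
      rintro _ _ rfl _ _ h; exact h) _ _ (primeIdealOf_comap g' hU hW eWU hx) h

/-- A point at which `f` is flat and the fibre is smooth is a smooth point. -/
lemma mem_smoothLocus_of_fiber {x : X} [LocallyOfFinitePresentation f]
    [LocallyOfFinitePresentation (f.fiberToSpecResidueField (f x))]
    (hflat : (f.stalkMap x).hom.Flat)
    (hx : f.asFiber x ∈ (f.fiberToSpecResidueField (f x)).smoothLocus) : x ∈ f.smoothLocus := by
  obtain ⟨_, ⟨V : S.Opens, hV, rfl⟩, hsV, -⟩ :=
    S.isBasis_affineOpens.exists_subset_of_mem_open (Set.mem_univ (f x)) isOpen_univ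
  obtain ⟨_, ⟨U : X.Opens, hU, rfl⟩, hxU, eU⟩ :=
    X.isBasis_affineOpens.exists_subset_of_mem_open (show x ∈ f ⁻¹ᵁ V from hsV) (f ⁻¹ᵁ V).2
  algebraize [(f.appLE V U eU).hom]
  have : Algebra.FinitePresentation Γ(S, V) Γ(X, U) := f.finitePresentation_appLE hV hU eU
  let p := (hV.primeIdealOf ⟨f x, hsV⟩).asIdeal
  let q := (hU.primeIdealOf ⟨x, hxU⟩).asIdeal
  have hqp : q.LiesOver p := ⟨(primeIdealOf_comap f hV hU eU hxU).symm⟩
  rw [Scheme.Hom.mem_smoothLocus, formallySmooth_stalkMap_iff V hV U hU eU hxU]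
  -- flatness at `q`
  have : Module.Flat Γ(S, V) (Localization.AtPrime q) := by
    let := Localization.AtPrime.algebraOfLiesOver p q
    have h1 : (Localization.localRingHom p q (f.appLE V U eU).hom hqp.over).Flat :=
      (RingHom.Flat.respectsIso.arrow_mk_iso_iff
        (IsAffineOpen.arrowStalkMapIso f V hV U hU eU hxU)).mp hflat
    have h2 : Module.Flat (Localization.AtPrime p) (Localization.AtPrime q) :=
      RingHom.flat_algebraMap_iff.mp h1
    exact Module.Flat.trans Γ(S, V) (Localization.AtPrime p) _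
  -- the fibre over the residue field of `p`
  let K := CommRingCat.of p.ResidueField
  let h : Spec K ⟶ S := Spec.map (CommRingCat.ofHom (algebraMap Γ(S, V) p.ResidueField)) ≫ hV.fromSpec
  let F := p.ResidueField ⊗[Γ(S, V)] Γ(X, U)
  -- a point of the fibre over `q`
  have hmem : (⟨q, inferInstance⟩ : PrimeSpectrum Γ(X, U)) ∈
      PrimeSpectrum.comap (algebraMap Γ(S, V) Γ(X, U)) ⁻¹' {⟨p, inferInstance⟩} :=
    PrimeSpectrum.ext hqp.over.symm
  let Q := PrimeSpectrum.preimageEquivFiber Γ(S, V) Γ(X, U) ⟨p, inferInstance⟩ ⟨_, hmem⟩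
  have hQ : Q.asIdeal.comap
      (Algebra.TensorProduct.includeRight : Γ(X, U) →ₐ[Γ(S, V)] F).toRingHom = q :=
    congr($((PrimeSpectrum.preimageEquivFiber Γ(S, V) Γ(X, U) ⟨p, inferInstance⟩).symm_apply_apply
      ⟨_, hmem⟩).1.asIdeal)
  suffices Algebra.IsSmoothAt p.ResidueField Q.asIdeal from
    isSmoothAt_of_flat_of_fiber p q Q.asIdeal hQ
  -- the morphism to the base through the residue field of `f x`
  have hh : h (IsLocalRing.closedPoint K) = f x := by
    have hc : Spec.map (CommRingCat.ofHom (algebraMap Γ(S, V) p.ResidueField))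
        (IsLocalRing.closedPoint K) = hV.primeIdealOf ⟨f x, hsV⟩ := by
      refine PrimeSpectrum.ext ?_
      show Ideal.comap (algebraMap Γ(S, V) p.ResidueField) (IsLocalRing.maximalIdeal p.ResidueField) = p
      rw [IsLocalRing.maximalIdeal_eq_bot, ← RingHom.ker_eq_comap_bot]
      exact Ideal.ker_algebraMap_residueField p
    rw [Scheme.Hom.comp_apply, hc, hV.fromSpec_primeIdealOf]
  obtain ⟨φ, hφ⟩ : ∃ φ : S.residueField (f x) ⟶ K, Spec.map φ ≫ S.fromSpecResidueField (f x) = h := by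
    rw [← hh]
    exact ⟨_, Scheme.descResidueField_stalkClosedPointTo_fromSpecResidueField _ _ h⟩
  have H₀ : IsPullback (pullback.fst f h) (pullback.snd f h) f h := IsPullback.of_hasPullback _ _
  let c : pullback f h ⟶ f.fiber (f x) :=
    pullback.lift (pullback.fst f h) (pullback.snd f h ≫ Spec.map φ)
      (by rw [Category.assoc, hφ]; exact pullback.condition)
  have hc : IsPullback c (pullback.snd f h) (f.fiberToSpecResidueField (f x)) (Spec.map φ) := by
    refine IsPullback.of_right ?_ (pullback.lift_snd _ _ _)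
      (IsPullback.of_hasPullback f (S.fromSpecResidueField (f x)))
    convert H₀ using 1
    exact pullback.lift_fst _ _ _
  -- the affine chart of the pulled back fibre
  let e := pullbackSpecIso Γ(S, V) p.ResidueField Γ(X, U)
  let j : Spec (.of F) ⟶ pullback f h := e.inv ≫ (pullbackSymmetry _ _).hom ≫
    pullback.map (Spec.map (CommRingCat.ofHom (algebraMap Γ(S, V) Γ(X, U))))
      (Spec.map (CommRingCat.ofHom (algebraMap Γ(S, V) p.ResidueField))) f h hU.fromSpec (𝟙 _) hV.fromSpec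
      (hV.SpecMap_appLE_fromSpec f hU eU) (by simp [h])
  have : IsOpenImmersion j := by
    have : Mono hV.fromSpec := inferInstance
    infer_instance
  have hj₂ : j ≫ pullback.snd f h = Spec.map (CommRingCat.ofHom (algebraMap p.ResidueField F)) := by
    simp only [j, Category.assoc, pullback.map, pullback.lift_snd, Category.comp_id]
    rw [pullbackSymmetry_hom_comp_snd]
    exact pullbackSpecIso_inv_fst' _ _ _
  have hj₁ : j ≫ pullback.fst f h = Spec.map (CommRingCat.ofHom
      ((Algebra.TensorProduct.includeRight : Γ(X, U) →ₐ[Γ(S, V)] F).toRingHom)) ≫ hU.fromSpec := by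
    simp only [j, Category.assoc, pullback.map, pullback.lift_fst]
    rw [pullbackSymmetry_hom_comp_fst_assoc]
    exact pullbackSpecIso_inv_snd_assoc _ _ _ _
  have hfst : pullback.fst f h (j Q) = x := by
    have h1 := congr(($hj₁).base Q)
    rw [Scheme.Hom.comp_apply] at h1
    refine h1.trans ?_
    show hU.fromSpec (PrimeSpectrum.comap
      (Algebra.TensorProduct.includeRight : Γ(X, U) →ₐ[Γ(S, V)] F).toRingHom Q) = x
    rw [show PrimeSpectrum.comap (Algebra.TensorProduct.includeRight : Γ(X, U) →ₐ[Γ(S, V)] F).toRingHom Q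
      = hU.primeIdealOf ⟨x, hxU⟩ from PrimeSpectrum.ext hQ, hU.fromSpec_primeIdealOf]
  have hcx : c (j Q) = f.asFiber x := by
    apply (f.fiberι (f x)).isEmbedding.injective
    rw [f.fiberι_asFiber, ← Scheme.Hom.comp_apply]
    exact (congrArg (fun m => m.base (j Q)) (pullback.lift_fst _ _ _ : c ≫ f.fiberι (f x) = pullback.fst f h)).trans hfst
  have : LocallyOfFinitePresentation (pullback.snd f h) := MorphismProperty.pullback_snd _ _ ‹_›
  have hsm : j Q ∈ (pullback.snd f h).smoothLocus :=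
    preimage_smoothLocus_le hc (show c (j Q) ∈ _ by rw [hcx]; exact hx)
  have : LocallyOfFinitePresentation (Spec.map (CommRingCat.ofHom (algebraMap p.ResidueField F))) := by
    rw [← hj₂]; infer_instance
  have hsm' : Q ∈ (Spec.map (CommRingCat.ofHom (algebraMap p.ResidueField F))).smoothLocus := by
    have h1 : Q ∈ j ⁻¹ᵁ (pullback.snd f h).smoothLocus := hsm
    rw [Scheme.Hom.preimage_smoothLocus_eq] at h1
    have key : ∀ (m m' : Spec (CommRingCat.of F) ⟶ Spec K) (_ : m = m')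
        [LocallyOfFinitePresentation m] [LocallyOfFinitePresentation m'],
        Q ∈ m.smoothLocus → Q ∈ m'.smoothLocus := by rintro _ _ rfl _ _ h; exact h
    exact key _ _ hj₂ h1
  replace hsm' : ((Spec.map (CommRingCat.ofHom (algebraMap p.ResidueField F))).stalkMap Q).hom.FormallySmooth := hsm'
  have hloc := (RingHom.FormallySmooth.respectsIso.arrow_mk_iso_iff
    (Scheme.arrowStalkMapSpecIso (CommRingCat.ofHom (algebraMap p.ResidueField F)) Q)).mp hsm'
  let P₀ := Q.asIdeal.comap (algebraMap p.ResidueField F)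
  have : Q.asIdeal.LiesOver P₀ := ⟨rfl⟩
  let := Localization.AtPrime.algebraOfLiesOver P₀ Q.asIdeal
  have : Algebra.FormallySmooth (Localization.AtPrime P₀) (Localization.AtPrime Q.asIdeal) :=
    RingHom.formallySmooth_algebraMap.mp hloc
  exact Algebra.FormallySmooth.iff_restrictScalars.mpr this

/-- At a smooth point the morphism is flat. -/
lemma flat_stalkMap_of_mem_smoothLocus [LocallyOfFinitePresentation f] {x : X}
    (hx : x ∈ f.smoothLocus) : (f.stalkMap x).hom.Flat := by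
  set U := f.smoothLocus
  have : Smooth (U.ι ≫ f) := by
    rw [← Scheme.Hom.smoothLocus_eq_top_iff, ← Scheme.Hom.preimage_smoothLocus_eq]
    exact top_le_iff.mp fun p _ => p.2
  have : Flat (U.ι ≫ f) := inferInstance
  have h := Flat.stalkMap (U.ι ≫ f) ⟨x, hx⟩
  rw [Scheme.Hom.stalkMap_comp] at h
  have : IsIso (U.ι.stalkMap ⟨x, hx⟩) := (IsOpenImmersion.iff_isIso_stalkMap.mp inferInstance).2 _
  exact (RingHom.Flat.respectsIso.cancel_right_isIso _ (U.ι.stalkMap ⟨x, hx⟩)).mp h

end Smooth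

section Unramified

/-- Formal unramifiedness near a point, in a chart. -/
lemma exists_formallyUnramified_iff (f : X ⟶ S) [LocallyOfFiniteType f] {x : X} {V : S.Opens}
    (hV : IsAffineOpen V) {U : X.Opens} (hU : IsAffineOpen U) (e : U ≤ f ⁻¹ᵁ V) (hx : x ∈ U) :
    (∃ O : X.Opens, x ∈ O ∧ FormallyUnramified (O.ι ≫ f)) ↔
      letI := (f.appLE V U e).hom.toAlgebra
      Algebra.IsUnramifiedAt Γ(S, V) (hU.primeIdealOf ⟨x, hx⟩).asIdeal := by
  algebraize [(f.appLE V U e).hom]
  constructor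
  · rintro ⟨O, hxO, hO⟩
    let p := (hV.primeIdealOf ⟨f x, e hx⟩).asIdeal
    let q := (hU.primeIdealOf ⟨x, hx⟩).asIdeal
    have hqp : q.LiesOver p := ⟨(primeIdealOf_comap f hV hU e hx).symm⟩
    let := Localization.AtPrime.algebraOfLiesOver p q
    have h := FormallyUnramified.stalkMap (O.ι ≫ f) ⟨x, hxO⟩
    rw [Scheme.Hom.stalkMap_comp] at h
    have : IsIso (O.ι.stalkMap ⟨x, hxO⟩) := (IsOpenImmersion.iff_isIso_stalkMap.mp inferInstance).2 _
    have h1 : (f.stalkMap x).hom.FormallyUnramified :=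
      (RingHom.FormallyUnramified.respectsIso.cancel_right_isIso _ (O.ι.stalkMap ⟨x, hxO⟩)).mp h
    have h2 := (RingHom.FormallyUnramified.respectsIso.arrow_mk_iso_iff
      (IsAffineOpen.arrowStalkMapIso f V hV U hU e hx)).mp h1
    have : Algebra.FormallyUnramified (Localization.AtPrime p) (Localization.AtPrime q) :=
      RingHom.formallyUnramified_algebraMap.mp h2
    exact Algebra.FormallyUnramified.comp Γ(S, V) (Localization.AtPrime p) _
  · intro h
    have : Algebra.FiniteType Γ(S, V) Γ(X, U) := f.finiteType_appLE hV hU e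
    obtain ⟨r, hr, hfu⟩ := Algebra.exists_formallyUnramified_of_isUnramifiedAt (R := Γ(S, V))
      (hU.primeIdealOf ⟨x, hx⟩).asIdeal
    have e' : X.basicOpen r ≤ f ⁻¹ᵁ V := (X.basicOpen_le r).trans e
    refine ⟨X.basicOpen r, ?_, ?_⟩
    · have h1 : hU.primeIdealOf ⟨x, hx⟩ ∈ hU.fromSpec ⁻¹ᵁ X.basicOpen r := by
        rw [hU.fromSpec_preimage_basicOpen]; exact hr
      have h2 : hU.fromSpec (hU.primeIdealOf ⟨x, hx⟩) ∈ X.basicOpen r := h1
      rwa [hU.fromSpec_primeIdealOf] at h2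
    · have : IsAffine (X.basicOpen r) := hU.basicOpen r
      have : IsAffine V := hV
      have : FormallyUnramified (f.resLE V (X.basicOpen r) e') := by
        rw [HasRingHomProperty.iff_of_isAffine (P := @FormallyUnramified)]
        rw [RingHom.FormallyUnramified.respectsIso.arrow_mk_iso_iff (arrowResLEAppIso f V _ e')]
        have := hU.isLocalization_basicOpen r
        rw [← RingHom.formallyUnramified_algebraMap] at hfu
        convert RingHom.FormallyUnramified.respectsIso.1 _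
          (IsLocalization.algEquiv (.powers r) _ Γ(X, X.basicOpen r)).toRingEquiv hfu
        ext a
        dsimp
        rw [IsScalarTower.algebraMap_apply Γ(S, V) Γ(X, U) (Localization.Away r)]
        erw [AlgEquiv.commutes]
        exact congr($((f.appLE_map e (homOfLE (X.basicOpen_le r)).op)) a).symm
      rw [← f.resLE_comp_ι e']
      exact MorphismProperty.comp_mem @FormallyUnramified _ _ this inferInstance

/-- Formal unramifiedness near a point descends along any base change. -/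
lemma exists_formallyUnramified_of_baseChange (H : IsPullback g' f' f g) [LocallyOfFiniteType f]
    [LocallyOfFiniteType f'] {x' : X'}
    (hx' : ∃ U' : X'.Opens, x' ∈ U' ∧ FormallyUnramified (U'.ι ≫ f')) :
    ∃ U : X.Opens, g' x' ∈ U ∧ FormallyUnramified (U.ι ≫ f) := by
  obtain ⟨V, V', U, W, eU, eV, eWU, eWV, hV, hV', hU, hW, hx, hpo⟩ := exists_chart H x'
  rw [exists_formallyUnramified_iff f' hV' hW eWV hx] at hx'
  rw [exists_formallyUnramified_iff f hV hU eU (eWU hx)]
  algebraize [(f.appLE V U eU).hom, (g.appLE V V' eV).hom, (g'.appLE U W eWU).hom,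
    (f'.appLE V' W eWV).hom, (g'.appLE U W eWU).hom.comp (f.appLE V U eU).hom]
  have : IsScalarTower Γ(S, V) Γ(S', V') Γ(X', W) :=
    IsScalarTower.of_algebraMap_eq fun a => congr($(hpo.w) a)
  have : IsScalarTower Γ(S, V) Γ(X, U) Γ(X', W) := IsScalarTower.of_algebraMap_eq fun a => rfl
  have : Algebra.IsPushout Γ(S, V) Γ(X, U) Γ(S', V') Γ(X', W) :=
    CommRingCat.isPushout_iff_isPushout.mp hpo
  have : Algebra.IsPushout Γ(S, V) Γ(S', V') Γ(X, U) Γ(X', W) := .symm inferInstance
  have : Algebra.FiniteType Γ(S, V) Γ(X, U) := f.finiteType_appLE hV hU eU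
  have := hx'
  have h := isUnramifiedAt_of_isPushout Γ(S, V) Γ(S', V') Γ(X, U) Γ(X', W)
    (hW.primeIdealOf ⟨x', hx⟩).asIdeal
  exact (show ∀ (a b : Ideal Γ(X, U)) (_ : a = b) [a.IsPrime] [b.IsPrime],
    Algebra.IsUnramifiedAt Γ(S, V) a → Algebra.IsUnramifiedAt Γ(S, V) b by
      rintro _ _ rfl _ _ h; exact h) _ _ (primeIdealOf_comap g' hU hW eWU hx) h

end Unramified

end Groth.PropsBasic.Loci
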